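import Groth.Agent.FlatDevLib.Basic
import Groth.Agent.GenFree.Algebra
import Groth.Agent.FlatLocus.Gen

/-! Flatness of base change to finite products of rings. -/

set_option autoImplicit false
set_option linter.style.haveILetI false
set_option linter.unusedSectionVars false
set_option backward.isDefEq.respectTransparency false

namespace Groth.Agent.FlatModSqLib

open TensorProduct

universe u

variable {R : Type u} [CommRing R] {M : Type u} [AddCommGroup M] [Module R M]

theorem flat_pi_baseChange {ι : Type u} [Finite ι] (B : ι → Type u) [∀ i, CommRing (B i)] [∀ i, Algebra R (B i)]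
    [∀ i, Module.Flat (B i) (B i ⊗[R] M)] : Module.Flat (∀ i, B i) ((∀ i, B i) ⊗[R] M) := by
  classical
  cases nonempty_fintype ι
  refine CAlgBasics.flat_baseChange_of_rTensor_injective _ M fun J => ?_
  let Ji : ∀ i, Ideal (B i) := fun i => J.map (Pi.evalRingHom B i)
  let q : ∀ i, (J.restrictScalars R) →ₗ[R] ((Ji i).restrictScalars R) := fun i =>
    ((LinearMap.proj i).comp (J.restrictScalars R).subtype).codRestrict _ fun x => Ideal.mem_map_of_mem _ x.2
  let s : ∀ i, ((Ji i).restrictScalars R) →ₗ[R] (J.restrictScalars R) := fun i =>
    ((LinearMap.single R B i).comp ((Ji i).restrictScalars R).subtype).codRestrict _ fun x => by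
      obtain ⟨y, hy, hxy⟩ := (Ideal.mem_map_iff_of_surjective (Pi.evalRingHom B i)
        (fun b => ⟨Pi.single i b, Pi.single_eq_same i b⟩)).mp x.2
      show Pi.single i x.1 ∈ J
      rw [← hxy, show Pi.single i (Pi.evalRingHom B i y) = Pi.single i 1 * y by
        ext j
        rcases eq_or_ne j i with rfl | hne
        · simp
        · simp [Pi.single_eq_of_ne hne]]
      exact J.mul_mem_left _ hy
  have hid : ∑ i, (s i).comp (q i) = LinearMap.id := LinearMap.ext fun x => Subtype.ext (by
    rw [LinearMap.sum_apply, AddSubmonoidClass.coe_finsetSum]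
    exact Finset.univ_sum_single x.1)
  refine (injective_iff_map_eq_zero _).mpr fun z hz => ?_
  change (J.restrictScalars R) ⊗[R] M at z
  change ((J.restrictScalars R).subtype.rTensor M) z = 0 at hz
  suffices h : ∀ i, (q i).rTensor M z = 0 by
    calc z = (∑ i, (s i).comp (q i)).rTensor M z := by rw [hid, LinearMap.rTensor_id]; rfl
    _ = 0 := by
      rw [← LinearMap.coe_rTensorHom, map_sum, LinearMap.sum_apply]
      exact Finset.sum_eq_zero fun i _ => by
        rw [LinearMap.coe_rTensorHom, LinearMap.rTensor_comp, LinearMap.comp_apply, h i, map_zero]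
  intro i
  have hinj : Function.Injective (((Ji i).subtype.restrictScalars R).rTensor M) :=
    CAlgBasics.rTensor_injective_of_flat_baseChange (B i) M (Ji i).subtype (Ji i).injective_subtype
  refine hinj ?_
  rw [map_zero]
  refine (LinearMap.congr_fun (LinearMap.rTensor_comp M ((Ji i).subtype.restrictScalars R) (q i)) z).symm.trans ?_
  rw [show ((Ji i).subtype.restrictScalars R) ∘ₗ q i = LinearMap.proj i ∘ₗ (J.restrictScalars R).subtype from rfl,
    LinearMap.rTensor_comp, LinearMap.comp_apply, hz, map_zero]

/-- Flatness of a localised base change from flatness at the primes of a basic open. -/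
theorem flat_away {f : R} (h : ∀ p : PrimeSpectrum R, f ∉ p.asIdeal → Module.Flat R (LocalizedModule p.asIdeal.primeCompl M)) :
    Module.Flat (Localization.Away f) (Localization.Away f ⊗[R] M) := by
  haveI : Module.Flat R (LocalizedModule (Submonoid.powers f) M) :=
    FlatLocus.flat_localized_of_forall_prime (Submonoid.powers f) (LocalizedModule.mkLinearMap _ M) fun P hP hdis =>
      h ⟨P, hP⟩ fun hf => Set.disjoint_left.mp hdis (Submonoid.mem_powers f) hf
  haveI : Module.Flat (Localization.Away f) (LocalizedModule (Submonoid.powers f) M) :=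
    (Module.flat_iff_of_isLocalization (Localization.Away f) (Submonoid.powers f) _).mpr inferInstance
  exact Module.Flat.of_linearEquiv
    ((IsLocalizedModule.isBaseChange (Submonoid.powers f) (Localization.Away f)
      (LocalizedModule.mkLinearMap (Submonoid.powers f) M)).equiv)

end Groth.Agent.FlatModSqLib
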